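import Groth.Agent.EtCechInjLib.Basic
import Groth.Agent.LocCohLib.Delta
import Groth.Agent.RDerLib.Delta
import Groth.Agent.RDerLib.LeftExact

/-!
# Cech cohomology of presheaves as derived functors
-/

set_option autoImplicit false
set_option linter.unusedSectionVars false
set_option linter.style.haveILetI false
set_option backward.isDefEq.respectTransparency false
set_option backward.isDefEq.respectTransparency.types false
set_option maxHeartbeats 1000000

universe w v u

open CategoryTheory CategoryTheory.Limits Opposite Simplicial LocCohLib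

namespace EtCechInjLib

noncomputable section

section Generic

variable {A B : Type*} [Category A] [Abelian A] [Category B] [Abelian B]

/-- An exact functor to nonnegative complexes gives a delta functor. -/
def ofNatCx (K : A ⥤ CochainComplex B ℕ) [K.PreservesZeroMorphisms]
    (hex : ∀ {S : ShortComplex A}, S.ShortExact → (S.map K).ShortExact) : DeltaFun A B where
  F i := K ⋙ HomologicalComplex.homologyFunctor _ _ i
  preservesZero _ := inferInstance
  δ hS i := (hex hS).δ i (i + 1) rfl
  δ_natural hS hS' φ i := HomologicalComplex.HomologySequence.δ_naturality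
    (K.mapShortComplex.map φ) (hex hS) (hex hS') _ _ rfl
  map_comp_δ hS i := (hex hS).comp_δ _ _ rfl
  δ_comp_map hS i := (hex hS).δ_comp _ _ rfl
  exact₁ hS i := (hex hS).homology_exact₁ _ _ rfl
  exact₂ hS i := (hex hS).homology_exact₂ _
  exact₃ hS i := (hex hS).homology_exact₃ _ _ rfl
  mono₀ {S} hS := by
    haveI := (hex hS).mono_f
    show Mono (HomologicalComplex.homologyMap (S.map K).f 0)
    haveI : Mono ((S.map K).f.f 0) := inferInstance
    haveI : Mono (HomologicalComplex.cyclesMap (S.map K).f 0) := by
      have : Mono (HomologicalComplex.cyclesMap (S.map K).f 0 ≫ HomologicalComplex.iCycles _ 0) := by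
        rw [HomologicalComplex.cyclesMap_i]; exact mono_comp _ _
      exact mono_of_mono _ (HomologicalComplex.iCycles _ 0)
    have h : Mono ((CochainComplex.isoHomologyπ₀ _).hom ≫ HomologicalComplex.homologyMap (S.map K).f 0) := by
      rw [show (CochainComplex.isoHomologyπ₀ _).hom ≫ HomologicalComplex.homologyMap (S.map K).f 0 =
          HomologicalComplex.cyclesMap (S.map K).f 0 ≫ (CochainComplex.isoHomologyπ₀ _).hom from
        HomologicalComplex.homologyπ_naturality (S.map K).f 0]
      exact mono_comp _ _
    exact (MorphismProperty.cancel_left_of_respectsIso (MorphismProperty.monomorphisms B) _ _).1 h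

variable [HasInjectiveResolutions A]

/-- Right derived functors as a delta functor. -/
def derDelta [EnoughInjectives A] (F : A ⥤ B) [F.Additive] : DeltaFun A B where
  F i := F.rightDerived i
  preservesZero i := inferInstance
  δ {S} hS i := (Groth.Agent.RDerLib.derivedLES F).δ S hS i (i + 1) rfl
  δ_natural hS hS' φ i := ((Groth.Agent.RDerLib.derivedLES F).δ_natural hS hS' φ i (i + 1) rfl).symm
  map_comp_δ hS i := (Groth.Agent.RDerLib.derivedLES F).comp_δ _ hS i (i + 1) rfl
  δ_comp_map hS i := (Groth.Agent.RDerLib.derivedLES F).δ_comp _ hS i (i + 1) rfl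
  exact₁ hS i := (Groth.Agent.RDerLib.derivedLES F).exact₁ _ hS i (i + 1) rfl
  exact₂ hS i := (Groth.Agent.RDerLib.derivedLES F).exact₂ _ hS i
  exact₃ hS i := (Groth.Agent.RDerLib.derivedLES F).exact₃ _ hS i (i + 1) rfl
  mono₀ hS := Groth.Agent.RDerLib.mono_map_zero F hS

/-- An effaceable exact functor to nonnegative complexes computes derived functors. -/
theorem nonempty_iso_rightDerived [EnoughInjectives A] (K : A ⥤ CochainComplex B ℕ) [K.PreservesZeroMorphisms]
    (hex : ∀ {S : ShortComplex A}, S.ShortExact → (S.map K).ShortExact)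
    (heff : ∀ (E : A), Injective E → ∀ i : ℕ, IsZero ((K.obj E).homology (i + 1)))
    [(K ⋙ HomologicalComplex.homologyFunctor _ _ 0).Additive] (p : ℕ) :
    Nonempty (K ⋙ HomologicalComplex.homologyFunctor _ _ p ≅
      (K ⋙ HomologicalComplex.homologyFunctor _ _ 0).rightDerived p) := by
  let T := ofNatCx K hex
  haveI : PreservesFiniteLimits (K ⋙ HomologicalComplex.homologyFunctor _ _ 0) := by
    rw [Functor.preservesFiniteLimits_iff_forall_exact_map_and_mono]
    exact fun S hS => ⟨T.exact₂ hS 0, T.mono₀ hS⟩
  exact ⟨DeltaFun.isoOfZero (T := T) (T' := derDelta (K ⋙ HomologicalComplex.homologyFunctor _ _ 0))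
    (fun E hE i => heff E hE i)
    (fun E hE i => haveI := hE; Functor.isZero_rightDerived_obj_injective_succ _ i E)
    (K ⋙ HomologicalComplex.homologyFunctor _ _ 0).rightDerivedZeroIsoSelf.symm p⟩

end Generic

section Cech

variable {D : Type u} [Category.{v} D] [HasFiniteProducts D] {ι : Type w} (Uf : ι → D)

theorem comp_map {Q Q' : Dᵒᵖ ⥤ AddCommGrpCat.{w}} (φ : Q ⟶ Q') (n : ℕ) (a : Fin (n + 1) → ι) (x : (cx Uf Q).X n) :
    comp Uf Q' n a (((cechComplexFunctor Uf).map φ).f n x) = φ.app (op (∏ᶜ fun k => Uf (a k))) (comp Uf Q n a x) := by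
  have h : ((cechComplexFunctor Uf).map φ).f n ≫ comp Uf Q' n a = comp Uf Q n a ≫ φ.app (op (∏ᶜ fun k => Uf (a k))) :=
    limMap_π _ (Discrete.mk a)
  exact ConcreteCategory.congr_hom h x

instance preservesZeroMorphisms_cx : (cechComplexFunctor (A := AddCommGrpCat.{w}) Uf).PreservesZeroMorphisms where
  map_zero Q Q' := by
    ext n x
    refine comp_ext Uf Q' fun a => (comp_map Uf (0 : Q ⟶ Q') n a x).trans ?_
    exact (map_zero (comp Uf Q' n a).hom).symm

theorem shortExact_cx {S : ShortComplex (Dᵒᵖ ⥤ AddCommGrpCat.{w})} (hS : S.ShortExact)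
    :
    (S.map (cechComplexFunctor Uf)).ShortExact :=
  HomologicalComplex.shortExact_of_degreewise_shortExact _ fun n => by
    let T : ∀ a : Fin (n + 1) → ι, ShortComplex AddCommGrpCat.{w} := fun a =>
      S.map ((evaluation _ _).obj (op (∏ᶜ fun k => Uf (a k))))
    have hT : ∀ a, (T a).ShortExact := fun a => hS.map_of_exact _
    refine
      { exact := ?_
        mono_f := (AddCommGrpCat.mono_iff_injective _).2 ?_
        epi_g := (AddCommGrpCat.epi_iff_surjective _).2 ?_ }
    · rw [ShortComplex.ab_exact_iff]
      intro x hx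
      have hc : ∀ a, (T a).g (comp Uf S.X₂ n a x) = 0 := fun a => by
        have h : comp Uf S.X₃ n a (((cechComplexFunctor Uf).map S.g).f n x) = (T a).g (comp Uf S.X₂ n a x) :=
          comp_map Uf S.g n a x
        rw [← h]
        exact (congrArg (comp Uf S.X₃ n a) hx).trans (map_zero (comp Uf S.X₃ n a).hom)
      choose y hy using fun a => (ShortComplex.ab_exact_iff _).1 (hT a).exact _ (hc a)
      obtain ⟨z, hz⟩ := exists_comp_eq Uf S.X₁ n y
      refine ⟨z, comp_ext Uf S.X₂ fun a => ?_⟩
      refine (comp_map Uf S.f n a z).trans ?_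
      show (T a).f _ = _
      rw [hz, hy]
    · intro z z' h
      refine comp_ext Uf S.X₁ fun a => (AddCommGrpCat.mono_iff_injective _).1 (hT a).mono_f ?_
      exact (comp_map Uf S.f n a z).symm.trans ((congrArg (comp Uf S.X₂ n a) h).trans (comp_map Uf S.f n a z'))
    · intro t
      choose y hy using fun a => (AddCommGrpCat.epi_iff_surjective _).1 (hT a).epi_g (comp Uf S.X₃ n a t)
      obtain ⟨z, hz⟩ := exists_comp_eq Uf S.X₂ n y
      refine ⟨z, comp_ext Uf S.X₃ fun a => ?_⟩
      refine (comp_map Uf S.g n a z).trans ?_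
      show (T a).g _ = _
      rw [hz, hy]

end Cech

end

end EtCechInjLib
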