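import Groth.Prelude.Def_EtCech
import Mathlib

/-!
# Cech complexes as functions on simplices, and vanishing on injective presheaves
-/

set_option autoImplicit false
set_option linter.unusedSectionVars false
set_option linter.style.haveILetI false
set_option backward.isDefEq.respectTransparency false
set_option backward.isDefEq.respectTransparency.types false
set_option maxHeartbeats 1000000

universe w v u

open CategoryTheory CategoryTheory.Limits Opposite Simplicial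

namespace EtCechInjLib

noncomputable section

section Simplices

variable {D : Type u} [Category.{v} D] [HasFiniteProducts D] {ι : Type w} (Uf : ι → D)

/-- Maps from an object to the members of the family. -/
abbrev M (T : D) : Type (max w v) := Σ i, (T ⟶ Uf i)

/-- Pullback of a simplex. -/
abbrev pb {T T' : D} (g : T' ⟶ T) {n : ℕ} (m : Fin n → M Uf T) : Fin n → M Uf T' :=
  fun k => ⟨(m k).1, g ≫ (m k).2⟩

variable (Q : Dᵒᵖ ⥤ AddCommGrpCat.{w})

/-- The complex. -/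
abbrev cx : CochainComplex AddCommGrpCat.{w} ℕ := (cechComplexFunctor Uf).obj Q

/-- A component of a cochain. -/
def comp (n : ℕ) (a : Fin (n + 1) → ι) : (cx Uf Q).X n ⟶ Q.obj (op (∏ᶜ fun k => Uf (a k))) :=
  Pi.π (fun a : Fin (n + 1) → ι => Q.obj (op (∏ᶜ fun k => Uf (a k)))) a

theorem comp_ext {n : ℕ} {x y : (cx Uf Q).X n} (h : ∀ a, comp Uf Q n a x = comp Uf Q n a y) : x = y :=
  Concrete.limit_ext _ _ _ fun ⟨a⟩ => h a

theorem exists_comp_eq (n : ℕ) (u : ∀ a : Fin (n + 1) → ι, Q.obj (op (∏ᶜ fun k => Uf (a k)))) :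
    ∃ x : (cx Uf Q).X n, ∀ a, comp Uf Q n a x = u a :=
  ⟨(Concrete.productEquiv fun a : Fin (n + 1) → ι => Q.obj (op (∏ᶜ fun k => Uf (a k)))).symm u,
    fun a => Concrete.productEquiv_symm_apply_π _ u a⟩

/-- A cochain evaluated on a simplex. -/
def ev {n : ℕ} (x : (cx Uf Q).X n) (T : D) (m : Fin (n + 1) → M Uf T) : Q.obj (op T) :=
  Q.map (Pi.lift fun k => (m k).2).op (comp Uf Q n (fun k => (m k).1) x)

theorem ev_natural {n : ℕ} (x : (cx Uf Q).X n) {T T' : D} (g : T' ⟶ T) (m : Fin (n + 1) → M Uf T) :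
    Q.map g.op (ev Uf Q x T m) = ev Uf Q x T' (pb Uf g m) := by
  show Q.map g.op (Q.map _ _) = Q.map _ _
  rw [← ConcreteCategory.comp_apply, ← Q.map_comp, ← op_comp]
  congr 3
  refine congrArg Quiver.Hom.op ?_
  apply Pi.hom_ext
  intro k
  simp

theorem ev_ext {n : ℕ} {x y : (cx Uf Q).X n} (h : ∀ T m, ev Uf Q x T m = ev Uf Q y T m) : x = y := by
  refine comp_ext Uf Q fun a => ?_
  have := h (∏ᶜ fun k => Uf (a k)) (fun k => ⟨a k, Pi.π _ k⟩)
  have e : Pi.lift (fun k => Pi.π (fun k => Uf (a k)) k) = 𝟙 (∏ᶜ fun k => Uf (a k)) := Pi.hom_ext _ _ (by simp)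
  simpa [ev, e] using this

theorem exists_ev_eq {n : ℕ} (η : ∀ T, (Fin (n + 1) → M Uf T) → Q.obj (op T))
    (hη : ∀ {T T' : D} (g : T' ⟶ T) (m : Fin (n + 1) → M Uf T), Q.map g.op (η T m) = η T' (pb Uf g m)) :
    ∃ x : (cx Uf Q).X n, ∀ T m, ev Uf Q x T m = η T m := by
  obtain ⟨x, hx⟩ := exists_comp_eq Uf Q n fun a => η _ fun k => ⟨a k, Pi.π _ k⟩
  refine ⟨x, fun T m => ?_⟩
  show Q.map _ (comp Uf Q n _ x) = _
  rw [hx, hη]
  congr 1
  funext k
  simp [pb]

theorem ev_δ {n : ℕ} (x : (cx Uf Q).X n) (k : Fin (n + 2)) (T : D) (m : Fin (n + 2) → M Uf T) :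
    ev Uf Q ((((FormalCoproduct.cosimplicialObjectFunctor (FormalCoproduct.mk _ Uf).cech).obj Q).δ k) x) T m =
      ev Uf Q x T (m ∘ k.succAbove) := by
  show Q.map _ (comp Uf Q (n + 1) _ _) = Q.map _ _
  have h : comp Uf Q (n + 1) (fun j => (m j).1)
      ((((FormalCoproduct.cosimplicialObjectFunctor (FormalCoproduct.mk _ Uf).cech).obj Q).δ k) x) =
      Q.map (Pi.lift fun j => Pi.π (fun j => Uf (m j).1) (k.succAbove j)).op
        (comp Uf Q n (fun j => (m (k.succAbove j)).1) x) := by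
    refine Eq.trans (ConcreteCategory.comp_apply _ _ x).symm (Eq.trans ?_ (ConcreteCategory.comp_apply _ _ x))
    have hm : ((FormalCoproduct.cosimplicialObjectFunctor (FormalCoproduct.mk _ Uf).cech).obj Q).δ k ≫
        comp Uf Q (n + 1) (fun j => (m j).1) = comp Uf Q n (fun j => (m (k.succAbove j)).1) ≫
          Q.map (Pi.lift fun j => Pi.π (fun j => Uf (m j).1) (k.succAbove j)).op :=
      limit.lift_π _ (Discrete.mk fun j => (m j).1)
    exact ConcreteCategory.congr_hom hm x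
  rw [h, ← ConcreteCategory.comp_apply, ← Q.map_comp, ← op_comp]
  show Q.map _ _ = Q.map (Pi.lift fun j => (m (k.succAbove j)).2).op _
  congr 3
  refine congrArg Quiver.Hom.op ?_
  apply Pi.hom_ext
  intro j
  simp

theorem ev_d {n : ℕ} (x : (cx Uf Q).X n) (T : D) (m : Fin (n + 2) → M Uf T) :
    ev Uf Q ((cx Uf Q).d n (n + 1) x) T m =
      ∑ k : Fin (n + 2), ((-1 : ℤ) ^ (k : ℕ)) • ev Uf Q x T (m ∘ k.succAbove) := by
  let X := (FormalCoproduct.cosimplicialObjectFunctor (FormalCoproduct.mk _ Uf).cech).obj Q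
  have hd : (cx Uf Q).d n (n + 1) = AlgebraicTopology.AlternatingCofaceMapComplex.objD X n := by
    show (AlgebraicTopology.AlternatingCofaceMapComplex.obj X).d n (n + 1) = _
    simp [AlgebraicTopology.AlternatingCofaceMapComplex.obj]
  simp only [← ev_δ]
  rw [ev, hd]
  have hs : AlgebraicTopology.AlternatingCofaceMapComplex.objD X n x =
      ∑ k : Fin (n + 2), ((-1 : ℤ) ^ (k : ℕ)) • X.δ k x := by
    show AddCommGrpCat.homAddEquiv (∑ k : Fin (n + 2), ((-1 : ℤ) ^ (k : ℕ)) • X.δ k) x = _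
    rw [map_sum, AddMonoidHom.finsetSum_apply]
    refine Finset.sum_congr rfl fun k _ => ?_
    rw [map_zsmul]
    rfl
  refine (congrArg (fun y => Q.map (Pi.lift fun k => (m k).2).op (comp Uf Q (n + 1) (fun k => (m k).1) y)) hs).trans ?_
  show Q.map _ (comp Uf Q (n + 1) (fun k => (m k).1) (∑ k : Fin (n + 2), ((-1 : ℤ) ^ (k : ℕ)) • X.δ k x)) = _
  rw [map_sum (comp Uf Q (n + 1) (fun k => (m k).1)).hom, map_sum (Q.map (Pi.lift fun k => (m k).2).op).hom]
  refine Finset.sum_congr rfl fun k _ => ?_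
  rw [map_zsmul (comp Uf Q (n + 1) (fun k => (m k).1)).hom, map_zsmul (Q.map (Pi.lift fun k => (m k).2).op).hom]
  rfl

theorem ev_zero {n : ℕ} (T : D) (m : Fin (n + 1) → M Uf T) : ev Uf Q (0 : (cx Uf Q).X n) T m = 0 := by
  rw [ev, map_zero (comp Uf Q n (fun k => (m k).1)).hom]
  exact map_zero (Q.map (Pi.lift fun k => (m k).2).op).hom

end Simplices

section Presheaf

variable {C : Type u} [Category.{v} C] [LocallySmall.{w} C] {U : C} {ι : Type w} (Uf : ι → Over U)

/-- Simplices over an object. -/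
abbrev Smp (n : ℕ) (T : C) : Type (max w v) := Σ φ : T ⟶ U, (Fin (n + 1) → M Uf (Over.mk φ))

instance small_hom_over (A B : Over U) : Small.{w} (A ⟶ B) :=
  small_of_injective (f := fun g : A ⟶ B => g.left) fun _ _ h => Over.OverMorphism.ext h

instance small_smp (n : ℕ) (T : C) : Small.{w} (Smp Uf n T) := inferInstance

/-- Restriction of simplices. -/
def smpMap {n : ℕ} {T T' : C} (g : T' ⟶ T) (e : Smp Uf n T) : Smp Uf n T' :=
  ⟨g ≫ e.1, pb Uf (Over.homMk g rfl : Over.mk (g ≫ e.1) ⟶ Over.mk e.1) e.2⟩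

theorem m_ext {T : Over U} {a b : M Uf T} (h₂ : a.1 = b.1) (h₃ : a.2.left = b.2.left ≫ eqToHom (by rw [h₂])) :
    a = b := by
  obtain ⟨i, f⟩ := a
  obtain ⟨i', f'⟩ := b
  obtain rfl : i = i' := h₂
  refine congrArg (Sigma.mk i) (Over.OverMorphism.ext ?_)
  simpa using h₃

theorem smp_ext {n : ℕ} {T : C} {a b : Smp Uf n T} (h₁ : a.1 = b.1) (h₂ : ∀ k, (a.2 k).1 = (b.2 k).1)
    (h₃ : ∀ k, (a.2 k).2.left = (b.2 k).2.left ≫ eqToHom (by rw [h₂ k])) : a = b := by
  obtain ⟨φ, m⟩ := a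
  obtain ⟨φ', m'⟩ := b
  obtain rfl : φ = φ' := h₁
  exact congrArg (Sigma.mk φ) (funext fun k => m_ext Uf (h₂ k) (h₃ k))

theorem smpMap_id {n : ℕ} {T : C} (e : Smp Uf n T) : smpMap Uf (𝟙 T) e = e :=
  smp_ext Uf (Category.id_comp _) (fun _ => rfl) fun _ => by simp [smpMap]

theorem smpMap_comp {n : ℕ} {T T' T'' : C} (g : T' ⟶ T) (g' : T'' ⟶ T') (e : Smp Uf n T) :
    smpMap Uf (g' ≫ g) e = smpMap Uf g' (smpMap Uf g e) :=
  smp_ext Uf (Category.assoc _ _ _) (fun _ => rfl) fun _ => by simp [smpMap]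

/-- The free presheaf on simplices. -/
def G (n : ℕ) : Cᵒᵖ ⥤ AddCommGrpCat.{w} where
  obj T := AddCommGrpCat.of (FreeAbelianGroup (Shrink.{w} (Smp Uf n T.unop)))
  map g := AddCommGrpCat.ofHom (FreeAbelianGroup.map fun e => equivShrink _ (smpMap Uf g.unop ((equivShrink _).symm e)))
  map_id T := by
    ext1
    refine FreeAbelianGroup.lift_ext _ _ fun e => ?_
    simp [smpMap_id]
  map_comp g g' := by
    ext1
    refine FreeAbelianGroup.lift_ext _ _ fun e => ?_
    simp [smpMap_comp]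

/-- A generator. -/
def gen {n : ℕ} {T : C} (e : Smp Uf n T) : (G Uf n).obj (op T) := FreeAbelianGroup.of (equivShrink _ e)

theorem map_gen {n : ℕ} {T T' : C} (g : T' ⟶ T) (e : Smp Uf n T) :
    (G Uf n).map g.op (gen Uf e) = gen Uf (smpMap Uf g e) := by
  show FreeAbelianGroup.map _ (FreeAbelianGroup.of _) = _
  rw [FreeAbelianGroup.map_of_apply, Equiv.symm_apply_apply]
  rfl

theorem hom_ext_gen {n : ℕ} {T : C} {A : AddCommGrpCat.{w}} {a b : (G Uf n).obj (op T) ⟶ A}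
    (h : ∀ e, a (gen Uf e) = b (gen Uf e)) : a = b := by
  ext1
  refine FreeAbelianGroup.lift_ext _ _ fun e => ?_
  obtain ⟨e, rfl⟩ := (equivShrink _).surjective e
  exact h e

/-- Extension from generators. -/
def lift {n : ℕ} {T : C} {A : AddCommGrpCat.{w}} (f : Smp Uf n T → A) : (G Uf n).obj (op T) ⟶ A :=
  AddCommGrpCat.ofHom (FreeAbelianGroup.lift fun e => f ((equivShrink _).symm e))

theorem lift_gen {n : ℕ} {T : C} {A : AddCommGrpCat.{w}} (f : Smp Uf n T → A) (e : Smp Uf n T) :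
    lift Uf f (gen Uf e) = f e := by
  show FreeAbelianGroup.lift _ (FreeAbelianGroup.of _) = _
  rw [FreeAbelianGroup.lift_apply_of, Equiv.symm_apply_apply]

/-- A natural family of values gives a morphism. -/
def descHom {n : ℕ} {P : Cᵒᵖ ⥤ AddCommGrpCat.{w}} (f : ∀ T, Smp Uf n T → P.obj (op T))
    (hf : ∀ {T T' : C} (g : T' ⟶ T) (e : Smp Uf n T), P.map g.op (f T e) = f T' (smpMap Uf g e)) :
    G Uf n ⟶ P where
  app T := lift Uf (f T.unop)
  naturality T T' g := by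
    refine hom_ext_gen Uf fun e => ?_
    show lift Uf (f T'.unop) ((G Uf n).map g (gen Uf e)) = P.map g (lift Uf (f T.unop) (gen Uf e))
    rw [← g.op_unop, map_gen, lift_gen, lift_gen]
    exact (hf g.unop e).symm

theorem descHom_gen {n : ℕ} {P : Cᵒᵖ ⥤ AddCommGrpCat.{w}} (f : ∀ T, Smp Uf n T → P.obj (op T))
    (hf : ∀ {T T' : C} (g : T' ⟶ T) (e : Smp Uf n T), P.map g.op (f T e) = f T' (smpMap Uf g e))
    {T : C} (e : Smp Uf n T) : (descHom Uf f hf).app (op T) (gen Uf e) = f T e :=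
  lift_gen Uf (f T) e

/-- A face. -/
def face {n : ℕ} {T : C} (k : Fin (n + 2)) (e : Smp Uf (n + 1) T) : Smp Uf n T := ⟨e.1, e.2 ∘ k.succAbove⟩

theorem diff_nat {n : ℕ} {T T' : C} (g : T' ⟶ T) (e : Smp Uf (n + 1) T) :
    (G Uf n).map g.op (∑ k : Fin (n + 2), ((-1 : ℤ) ^ (k : ℕ)) • gen Uf (face Uf k e)) =
      ∑ k : Fin (n + 2), ((-1 : ℤ) ^ (k : ℕ)) • gen Uf (face Uf k (smpMap Uf g e)) := by
  rw [map_sum ((G Uf n).map g.op).hom]
  refine Finset.sum_congr rfl fun k _ => ?_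
  rw [map_zsmul ((G Uf n).map g.op).hom]
  congr 1
  exact map_gen Uf g _

/-- The differential. -/
def diff (n : ℕ) : G Uf (n + 1) ⟶ G Uf n :=
  descHom Uf (fun T e => ∑ k : Fin (n + 2), ((-1 : ℤ) ^ (k : ℕ)) • gen Uf (face Uf k e)) (diff_nat Uf)

theorem diff_gen {n : ℕ} {T : C} (e : Smp Uf (n + 1) T) :
    (diff Uf n).app (op T) (gen Uf e) = ∑ k : Fin (n + 2), ((-1 : ℤ) ^ (k : ℕ)) • gen Uf (face Uf k e) :=
  descHom_gen Uf (fun T e => ∑ k : Fin (n + 2), ((-1 : ℤ) ^ (k : ℕ)) • gen Uf (face Uf k e)) (diff_nat Uf) e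

/-- Prepending a chosen map. -/
def coneSmp {n : ℕ} {T : C} (e : Smp Uf n T) : Smp Uf (n + 1) T :=
  ⟨e.1, Fin.cons (haveI : Nonempty (M Uf (Over.mk e.1)) := ⟨e.2 0⟩; Classical.arbitrary _) e.2⟩

theorem face_zero_cone {n : ℕ} {T : C} (e : Smp Uf n T) : face Uf 0 (coneSmp Uf e) = e := by
  obtain ⟨φ, m⟩ := e
  refine congrArg (Sigma.mk φ) (funext fun j => ?_)
  simp [coneSmp]

theorem face_succ_cone {n : ℕ} {T : C} (k : Fin (n + 2)) (e : Smp Uf (n + 1) T) :
    face Uf k.succ (coneSmp Uf e) = coneSmp Uf (face Uf k e) := by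
  obtain ⟨φ, m⟩ := e
  refine congrArg (Sigma.mk φ) (funext fun j => ?_)
  refine Fin.cases ?_ (fun j => ?_) j
  · simp [coneSmp, face]
  · simp [coneSmp, face, Fin.succ_succAbove_succ]

/-- The contraction. -/
def cone (n : ℕ) (T : C) : (G Uf n).obj (op T) ⟶ (G Uf (n + 1)).obj (op T) :=
  lift Uf fun e => gen Uf (coneSmp Uf e)

theorem cone_homotopy (n : ℕ) (T : C) (z : (G Uf (n + 1)).obj (op T)) :
    (diff Uf (n + 1)).app (op T) (cone Uf (n + 1) T z) + cone Uf n T ((diff Uf n).app (op T) z) = z := by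
  refine congrArg (fun a => a z)
    (hom_ext_gen Uf (a := cone Uf (n + 1) T ≫ (diff Uf (n + 1)).app (op T) + (diff Uf n).app (op T) ≫ cone Uf n T)
      (b := 𝟙 _) fun e => ?_)
  show (diff Uf (n + 1)).app (op T) (cone Uf (n + 1) T (gen Uf e)) +
    cone Uf n T ((diff Uf n).app (op T) (gen Uf e)) = gen Uf e
  rw [cone, lift_gen, diff_gen, diff_gen, map_sum (cone Uf n T).hom, Fin.sum_univ_succ]
  simp only [Fin.val_zero, pow_zero, one_smul, face_zero_cone, face_succ_cone, Fin.val_succ]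
  rw [add_assoc, ← Finset.sum_add_distrib, Finset.sum_eq_zero, add_zero]
  intro k _
  rw [map_zsmul (cone Uf n T).hom, cone, lift_gen, pow_succ, mul_neg, mul_one, neg_smul]
  exact neg_add_cancel _

variable [HasFiniteProducts (Over U)]

theorem isZero_cechH_injective (I : Cᵒᵖ ⥤ AddCommGrpCat.{w}) [Injective I] (p : ℕ) :
    IsZero (EtCech.cechH Uf I (p + 1)) := by
  let Q := (Over.forget U).op ⋙ I
  refine ((HomologicalComplex.exactAt_iff' _ p (p + 1) (p + 1 + 1) (by simp) (by simp)).2 ?_).isZero_homology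
  rw [ShortComplex.ab_exact_iff]
  intro x hx
  change (cx Uf Q).X (p + 1) at x
  change (cx Uf Q).d (p + 1) (p + 1 + 1) x = 0 at hx
  let ξ : G Uf (p + 1) ⟶ I := descHom Uf (fun T e => (ev Uf Q x (Over.mk e.1) e.2 : I.obj (op T)))
    fun g e => ev_natural Uf Q x (Over.homMk g rfl : Over.mk (g ≫ e.1) ⟶ Over.mk e.1) e.2
  have hdx : ∀ T, (diff Uf (p + 1)).app (op T) ≫ ξ.app (op T) = 0 := by
    intro T
    refine hom_ext_gen Uf fun e => ?_
    show ξ.app (op T) ((diff Uf (p + 1)).app (op T) (gen Uf e)) = 0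
    rw [diff_gen, map_sum (ξ.app (op T)).hom]
    refine Eq.trans ?_ ((congrArg (fun y => ev Uf Q y (Over.mk e.1) e.2) hx).trans (ev_zero Uf Q _ _))
    refine Eq.trans ?_ (ev_d Uf Q x (Over.mk e.1) e.2).symm
    refine Finset.sum_congr rfl fun k _ => ?_
    rw [map_zsmul (ξ.app (op T)).hom]
    exact congrArg _ (descHom_gen Uf _ _ (face Uf k e))
  have hker : kernel.ι (diff Uf p) ≫ ξ = 0 := by
    ext T y
    have h0 : (diff Uf p).app T ((kernel.ι (diff Uf p)).app T y) = 0 :=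
      congrArg (fun t => t.app T y) (kernel.condition (diff Uf p))
    show ξ.app T ((kernel.ι (diff Uf p)).app T y) = 0
    rw [← cone_homotopy Uf p T.unop ((kernel.ι (diff Uf p)).app T y), h0, map_zero (cone Uf p T.unop).hom, add_zero]
    exact congrArg (fun t => t (cone Uf (p + 1) T.unop ((kernel.ι (diff Uf p)).app T y))) (hdx T.unop)
  let η : G Uf p ⟶ I :=
    Injective.factorThru (cokernel.desc (kernel.ι (diff Uf p)) ξ hker) (Abelian.factorThruCoimage (diff Uf p))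
  have hη : diff Uf p ≫ η = ξ := by
    conv_lhs => rw [← Abelian.coimage.fac (diff Uf p)]
    rw [Category.assoc, Injective.comp_factorThru, cokernel.π_desc]
  obtain ⟨y, hy⟩ := exists_ev_eq Uf Q (n := p) (fun T m => (η.app (op T.left) (gen Uf ⟨T.hom, m⟩) : Q.obj (op T)))
    fun {T T'} g m => by
      refine (NatTrans.naturality_apply η g.left.op (gen Uf ⟨T.hom, m⟩)).symm.trans ?_
      refine congrArg (η.app (op T'.left)) ((map_gen Uf g.left _).trans (congrArg (gen Uf) ?_))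
      exact smp_ext Uf (Over.w g) (fun _ => rfl) fun _ => by simp [smpMap]
  refine ⟨y, ev_ext Uf Q fun T m => ?_⟩
  refine (ev_d Uf Q y T m).trans ?_
  have h1 := congrArg (fun t => t.app (op T.left) (gen Uf ⟨T.hom, m⟩)) hη
  refine Eq.trans ?_ (h1.trans (descHom_gen Uf _ _ (T := T.left) ⟨T.hom, m⟩))
  show _ = η.app (op T.left) ((diff Uf p).app (op T.left) (gen Uf ⟨T.hom, m⟩))
  rw [diff_gen, map_sum (η.app (op T.left)).hom]
  refine Finset.sum_congr rfl fun k _ => ?_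
  rw [map_zsmul (η.app (op T.left)).hom]
  exact congrArg _ (hy T (m ∘ k.succAbove))

end Presheaf

end

end EtCechInjLib
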