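import Groth.Agent.EtCechInjLib.Delta
import Groth.Agent.EtShLib.Point
import Groth.Agent.EtShLib.Stalk

/-!
# Sections lift when the first Cech cohomology of the kernel vanishes
-/

set_option autoImplicit false
set_option linter.unusedSectionVars false
set_option linter.style.haveILetI false
set_option backward.isDefEq.respectTransparency false
set_option backward.isDefEq.respectTransparency.types false
set_option maxHeartbeats 1000000

universe u

open CategoryTheory CategoryTheory.Limits Opposite AlgebraicGeometry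

namespace EtCechInjLib

noncomputable section

variable {X : Scheme.{u}} {S : ShortComplex (EtCoh.Ab X)}

theorem exists_local_lift {B C : EtCoh.Ab X} (q : B ⟶ C) [Epi q] (U : X.Etale) (s : ToType (C.obj.obj (op U)))
    (x : U.left) :
    ∃ (V : X.Etale) (φ : V ⟶ U), (∃ v : V.left, φ.left v = x) ∧ ∃ b, q.hom.app (op V) b = C.obj.map φ.op s := by
  obtain ⟨Ω, _, _, ξ, v₀, hv₀⟩ := Groth.Agent.EtShLib.exists_geometric (U := U) x
  obtain ⟨q₁, hq₁⟩ := (AddCommGrpCat.epi_iff_surjective _).1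
    ((Groth.Agent.EtShLib.epi_iff_stalks (A := AddCommGrpCat.{u + 1}) q).1 inferInstance Ω ξ)
    (Groth.Agent.EtShLib.germ (A := AddCommGrpCat.{u + 1}) ξ C U v₀ s)
  obtain ⟨V₁, g₁, v₁, z₁, hv₁, rfl⟩ := Groth.Agent.EtShLib.exists_germ_below (A := AddCommGrpCat.{u + 1}) ξ q₁ U v₀
  rw [Groth.Agent.EtShLib.germ_natural_apply, ← hv₁, ← Groth.Agent.EtShLib.germ_res_apply] at hq₁
  obtain ⟨V₂, g₂, v₂, hv₂, he⟩ := (Groth.Agent.EtShLib.germ_eq_iff (A := AddCommGrpCat.{u + 1}) ξ V₁ v₁ _ _).1 hq₁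
  refine ⟨V₂, g₂ ≫ g₁, ⟨v₂.pt, ?_⟩, B.obj.map g₂.op z₁, ?_⟩
  · rw [← hv₀, ← hv₁, ← hv₂]
    rfl
  rw [NatTrans.naturality_apply q.hom g₂.op z₁, op_comp, Functor.map_comp, ConcreteCategory.comp_apply]
  exact he

variable [∀ U : X.Etale, HasFiniteProducts (Over U)]

theorem sections_surjective (hS : S.ShortExact)
    (h₁ : ∀ (U : X.Etale) (ι : Type (u + 1)) (Uf : ι → Over U),
      (∀ x : ↥(U.left), ∃ (i : ι) (y : ↥((Uf i).left.left)), (Uf i).hom.left.base y = x) →
      ∀ p : ℕ, 0 < p → IsZero (EtCech.cechH Uf S.X₁.obj p))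
    (U : X.Etale) : Function.Surjective (S.g.hom.app (op U)) := by
  intro s
  haveI := hS.epi_g
  haveI := hS.mono_f
  choose V φ hφ t ht using exists_local_lift S.g U s
  let ι := ULift.{u + 1} U.left
  let Uf : ι → Over U := fun i => Over.mk (φ i.down)
  have hcov : ∀ x : ↥(U.left), ∃ (i : ι) (y : ↥((Uf i).left.left)), (Uf i).hom.left.base y = x := fun x => by
    obtain ⟨v, hv⟩ := hφ x
    exact ⟨⟨x⟩, v, hv⟩
  have hmono : ∀ T : X.Etale, Function.Injective (S.f.hom.app (op T)) := fun T => by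
    haveI : Mono ((sheafToPresheaf X.smallEtaleTopology AddCommGrpCat.{u + 1}).map S.f) := inferInstance
    exact (AddCommGrpCat.mono_iff_injective _).1
      (inferInstanceAs (Mono (((sheafToPresheaf X.smallEtaleTopology AddCommGrpCat.{u + 1}).map S.f).app (op T))))
  have hker : ∀ (T : X.Etale) (b : ToType (S.X₂.obj.obj (op T))), S.g.hom.app (op T) b = 0 →
      ∃ a, S.f.hom.app (op T) a = b := fun T b hb => by
    have h := (hS.exact.map_of_mono_of_preservesKernel
      (sheafToPresheaf X.smallEtaleTopology AddCommGrpCat.{u + 1}) hS.mono_f inferInstance).map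
      ((evaluation X.Etaleᵒᵖ AddCommGrpCat.{u + 1}).obj (op T))
    exact (ShortComplex.ab_exact_iff _).1 h b hb
  let Q := (Over.forget U).op ⋙ S.X₁.obj
  let τ : ∀ T : Over U, M Uf T → ToType (S.X₂.obj.obj (op T.left)) := fun T m => S.X₂.obj.map m.2.left.op (t m.1.down)
  have hτg : ∀ (T : Over U) (m : M Uf T), S.g.hom.app (op T.left) (τ T m) = S.X₃.obj.map T.hom.op s := by
    intro T m
    refine (NatTrans.naturality_apply S.g.hom m.2.left.op (t m.1.down)).trans ?_
    refine (congrArg (S.X₃.obj.map m.2.left.op) (ht m.1.down)).trans ?_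
    exact ((ConcreteCategory.congr_hom (S.X₃.obj.map_comp (φ m.1.down).op m.2.left.op) s).symm.trans
      (congrArg (fun k => S.X₃.obj.map (Quiver.Hom.op k) s) (Over.w m.2)) :)
  have hex : ∀ (T : Over U) (m : Fin 2 → M Uf T), ∃ a, S.f.hom.app (op T.left) a = τ T (m 1) - τ T (m 0) := by
    intro T m
    refine hker T.left _ ?_
    rw [map_sub (S.g.hom.app (op T.left)).hom, hτg, hτg, sub_self]
  choose c hc using hex
  have hτn : ∀ {T T' : Over U} (g : T' ⟶ T) (m : M Uf T),
      S.X₂.obj.map g.left.op (τ T m) = τ T' ⟨m.1, g ≫ m.2⟩ := by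
    intro T T' g m
    show S.X₂.obj.map _ (S.X₂.obj.map _ _) = S.X₂.obj.map _ _
    exact ((ConcreteCategory.congr_hom (S.X₂.obj.map_comp m.2.left.op g.left.op) (t m.1.down)).symm :)
  obtain ⟨x, hx⟩ := exists_ev_eq Uf Q (n := 1) (fun T m => (c T m : Q.obj (op T))) fun {T T'} g m => by
    refine hmono T'.left ?_
    refine (NatTrans.naturality_apply S.f.hom g.left.op (c T m)).trans ?_
    rw [hc, hc, map_sub (S.X₂.obj.map g.left.op).hom, hτn, hτn]
  have hdx : (cx Uf Q).d 1 (1 + 1) x = 0 := by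
    refine ev_ext Uf Q fun T m => ?_
    rw [ev_d, ev_zero]
    simp only [hx]
    refine hmono T.left ?_
    rw [map_sum (S.f.hom.app (op T.left)).hom, map_zero (S.f.hom.app (op T.left)).hom]
    simp only [map_zsmul (S.f.hom.app (op T.left)).hom]
    erw [Fin.sum_univ_three]
    simp [hc, Fin.succAbove]
  obtain ⟨y, hy⟩ := (show ∀ z, (cx Uf Q).d 1 (1 + 1) z = 0 → ∃ w, (cx Uf Q).d 0 1 w = z from
    fun z hz => (ShortComplex.ab_exact_iff _).1 ((HomologicalComplex.exactAt_iff' _ 0 1 2 (by simp) (by simp)).1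
      ((HomologicalComplex.exactAt_iff_isZero_homology _ _).2 (h₁ U ι Uf hcov 1 Nat.one_pos))) z hz) x hdx
  let r : ∀ T : Over U, M Uf T → ToType (S.X₂.obj.obj (op T.left)) := fun T m =>
    τ T m - S.f.hom.app (op T.left) (ev Uf Q y T fun _ => m)
  have hr : ∀ (T : Over U) (a b : M Uf T), r T a = r T b := by
    intro T a b
    have h := congrArg (fun z => ev Uf Q z T ![a, b]) hy
    simp only [hx, ev_d] at h
    have h' := congrArg (S.f.hom.app (op T.left)) h
    rw [hc, map_sum (S.f.hom.app (op T.left)).hom] at h'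
    erw [Fin.sum_univ_two] at h'
    have e0 : (![a, b] ∘ (0 : Fin 2).succAbove) = fun _ => b := by
      funext k; fin_cases k; rfl
    have e1 : (![a, b] ∘ (1 : Fin 2).succAbove) = fun _ => a := by
      funext k; fin_cases k; rfl
    simp only [Fin.val_zero, Fin.val_one, pow_zero, pow_one, one_smul, neg_smul, map_neg, e0, e1] at h'
    show τ T a - _ = τ T b - _
    have h'' : S.f.hom.app (op T.left) (ev Uf Q y T fun _ => b) + -(S.f.hom.app (op T.left) (ev Uf Q y T fun _ => a)) =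
        τ T b - τ T a := h'
    linear_combination (norm := abel) h''
  have hsheaf : (Presieve.ofArrows (fun i => (Uf i).left) (fun i => (Uf i).hom)).IsSheafFor
      (S.X₂.obj ⋙ forget AddCommGrpCat.{u + 1}) := by
    rw [Presieve.isSheafFor_iff_generate]
    refine ((isSheaf_iff_isSheaf_of_type _ _).1
      (GrothendieckTopology.HasSheafCompose.isSheaf S.X₂.obj S.X₂.property)) _ ?_
    show Sieve.ofArrows (fun i => (Uf i).left) (fun i => (Uf i).hom) ∈ X.smallEtaleTopology U
    rw [Scheme.ofArrows_mem_smallEtaleTopology_iff]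
    exact Set.eq_univ_of_forall fun x => Set.mem_iUnion.2 (hcov x)
  have hrn : ∀ {T T' : Over U} (g : T' ⟶ T) (m : M Uf T),
      S.X₂.obj.map g.left.op (r T m) = r T' ⟨m.1, g ≫ m.2⟩ := by
    intro T T' g m
    rw [map_sub (S.X₂.obj.map g.left.op).hom, hτn]
    refine congrArg (fun z => τ T' ⟨m.1, g ≫ m.2⟩ - z) ?_
    refine (NatTrans.naturality_apply S.f.hom g.left.op (ev Uf Q y T fun _ => m)).symm.trans ?_
    exact congrArg (S.f.hom.app (op T'.left)) (ev_natural Uf Q y g fun _ => m)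
  obtain ⟨g, hg, -⟩ := (Presieve.isSheafFor_arrows_iff _ _).1 hsheaf (fun i => r (Uf i) ⟨i, 𝟙 _⟩)
    fun i j Z p q e => by
      let T : Over U := Over.mk (p ≫ (Uf i).hom)
      let p' : T ⟶ Uf i := Over.homMk p rfl
      let q' : T ⟶ Uf j := Over.homMk q e.symm
      show S.X₂.obj.map p'.left.op _ = S.X₂.obj.map q'.left.op _
      rw [hrn p', hrn q']
      exact hr T _ _
  refine ⟨g, (Presieve.isSeparatedFor_iff_generate.2 ?_ : (Presieve.ofArrows (fun i => (Uf i).left)
    (fun i => (Uf i).hom)).IsSeparatedFor (S.X₃.obj ⋙ forget AddCommGrpCat.{u + 1})).ext fun Z k hk => ?_⟩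
  · refine (((isSheaf_iff_isSheaf_of_type _ _).1
      (GrothendieckTopology.HasSheafCompose.isSheaf S.X₃.obj S.X₃.property)) _ ?_).isSeparatedFor
    show Sieve.ofArrows (fun i => (Uf i).left) (fun i => (Uf i).hom) ∈ X.smallEtaleTopology U
    rw [Scheme.ofArrows_mem_smallEtaleTopology_iff]
    exact Set.eq_univ_of_forall fun x => Set.mem_iUnion.2 (hcov x)
  cases hk with
  | mk i =>
    show S.X₃.obj.map (Uf i).hom.op (S.g.hom.app (op U) g) = S.X₃.obj.map (Uf i).hom.op s
    rw [← NatTrans.naturality_apply]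
    refine (congrArg (S.g.hom.app (op (Uf i).left)) (hg i)).trans ?_
    show S.g.hom.app (op (Uf i).left) (r (Uf i) _) = _
    rw [map_sub (S.g.hom.app (op (Uf i).left)).hom, hτg]
    have h0 : ∀ a, S.g.hom.app (op (Uf i).left) (S.f.hom.app (op (Uf i).left) a) = 0 := fun a =>
      congrArg (fun k => k.hom.app (op (Uf i).left) a) S.zero
    erw [h0]
    rw [sub_zero]

theorem isZero_cechH_quotient (hS : S.ShortExact)
    (h₁ : ∀ (U : X.Etale) (ι : Type (u + 1)) (Uf : ι → Over U),
      (∀ x : ↥(U.left), ∃ (i : ι) (y : ↥((Uf i).left.left)), (Uf i).hom.left.base y = x) →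
      ∀ p : ℕ, 0 < p → IsZero (EtCech.cechH Uf S.X₁.obj p))
    {U : X.Etale} {ι : Type (u + 1)} (Uf : ι → Over U)
    (hU : ∀ x : ↥(U.left), ∃ (i : ι) (y : ↥((Uf i).left.left)), (Uf i).hom.left.base y = x)
    (p : ℕ) (hp : 0 < p) (h₂ : IsZero (EtCech.cechH Uf S.X₂.obj p)) : IsZero (EtCech.cechH Uf S.X₃.obj p) := by
  let S' := (S.map (sheafToPresheaf X.smallEtaleTopology AddCommGrpCat.{u + 1})).map
    ((Functor.whiskeringLeft (Over U)ᵒᵖ X.Etaleᵒᵖ AddCommGrpCat.{u + 1}).obj (Over.forget U).op)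
  haveI := hS.mono_f
  haveI : Epi S'.g := by
    haveI : ∀ T, Epi (S'.g.app T) := fun T =>
      (AddCommGrpCat.epi_iff_surjective _).2 (sections_surjective hS h₁ T.unop.left)
    exact NatTrans.epi_of_epi_app _
  have hE : (S.map (sheafToPresheaf X.smallEtaleTopology AddCommGrpCat.{u + 1})).Exact :=
    hS.exact.map_of_mono_of_preservesKernel _ hS.mono_f inferInstance
  haveI : Mono (S.map (sheafToPresheaf X.smallEtaleTopology AddCommGrpCat.{u + 1})).f :=
    (sheafToPresheaf X.smallEtaleTopology AddCommGrpCat.{u + 1}).map_mono S.f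
  have hS' : S'.ShortExact :=
    { exact := hE.map _
      mono_f := ((Functor.whiskeringLeft (Over U)ᵒᵖ X.Etaleᵒᵖ AddCommGrpCat.{u + 1}).obj (Over.forget U).op).map_mono
        (S.map (sheafToPresheaf X.smallEtaleTopology AddCommGrpCat.{u + 1})).f
      epi_g := inferInstance }
  have hK := shortExact_cx Uf hS'
  exact (hK.homology_exact₃ p (p + 1) rfl).isZero_X₂ (h₂.eq_of_src _ _)
    ((h₁ U ι Uf hU (p + 1) (Nat.succ_pos p)).eq_of_tgt _ _)

end

end EtCechInjLib
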