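import Groth.Agent.EtCechInjLib.Delta

/-!
# Cech cohomology along a functor preserving finite products, and lifting of sections
-/

set_option autoImplicit false
set_option linter.unusedSectionVars false
set_option linter.style.haveILetI false
set_option backward.isDefEq.respectTransparency false
set_option backward.isDefEq.respectTransparency.types false
set_option maxHeartbeats 1000000

universe w v u v' u'

open CategoryTheory CategoryTheory.Limits Opposite Simplicial

namespace EtCechInjLib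

noncomputable section

variable {D : Type u} [Category.{v} D] [HasFiniteProducts D] {ι : Type w} (Uf : ι → D)

theorem isZero_homology_iff (Q : Dᵒᵖ ⥤ AddCommGrpCat.{w}) (n : ℕ) :
    IsZero ((cx Uf Q).homology (n + 1)) ↔
      ∀ x, (cx Uf Q).d (n + 1) (n + 1 + 1) x = 0 → ∃ y, (cx Uf Q).d n (n + 1) y = x := by
  rw [← HomologicalComplex.exactAt_iff_isZero_homology,
    HomologicalComplex.exactAt_iff' _ n (n + 1) (n + 1 + 1) (by simp) (by simp), ShortComplex.ab_exact_iff]
  rfl

variable {D' : Type u'} [Category.{v'} D'] [HasFiniteProducts D'] (G : D ⥤ D') [PreservesFiniteProducts G]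
  (Q : D'ᵒᵖ ⥤ AddCommGrpCat.{w})

/-- A simplex, transported. -/
abbrev mapSmp {n : ℕ} {T : D} (m : Fin n → M Uf T) : Fin n → M (fun i => G.obj (Uf i)) (G.obj T) :=
  fun k => ⟨(m k).1, G.map (m k).2⟩

theorem mapSmp_pb {n : ℕ} {T T' : D} (g : T' ⟶ T) (m : Fin n → M Uf T) :
    mapSmp Uf G (pb Uf g m) = pb (fun i => G.obj (Uf i)) (G.map g) (mapSmp Uf G m) :=
  funext fun k => congrArg (Sigma.mk _) (G.map_comp g (m k).2)

theorem isZero_homology_of_comp (n : ℕ) (h : IsZero ((cx (fun i => G.obj (Uf i)) Q).homology (n + 1))) :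
    IsZero ((cx Uf (G.op ⋙ Q)).homology (n + 1)) := by
  rw [isZero_homology_iff] at h ⊢
  intro x hx
  obtain ⟨y, hy⟩ := exists_comp_eq (fun i => G.obj (Uf i)) Q (n + 1)
    fun a => Q.map (PreservesProduct.iso G (fun k => Uf (a k))).inv.op (comp Uf (G.op ⋙ Q) (n + 1) a x)
  have hxy : ∀ T m, ev (fun i => G.obj (Uf i)) Q y (G.obj T) (mapSmp Uf G m) = ev Uf (G.op ⋙ Q) x T m := by
    intro T m
    show Q.map _ (comp _ Q (n + 1) (fun k => (m k).1) y) = Q.map (G.map (Pi.lift fun k => (m k).2)).op _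
    rw [hy, ← ConcreteCategory.comp_apply, ← Q.map_comp, ← op_comp]
    congr 3
    refine congrArg Quiver.Hom.op ?_
    rw [Iso.comp_inv_eq, PreservesProduct.iso_hom, map_lift_piComparison]
  have hdy : (cx (fun i => G.obj (Uf i)) Q).d (n + 1) (n + 1 + 1) y = 0 := by
    refine comp_ext _ Q fun a => ?_
    rw [map_zero (comp (fun i => G.obj (Uf i)) Q (n + 1 + 1) a).hom]
    let m : Fin (n + 1 + 1 + 1) → M Uf (∏ᶜ fun k => Uf (a k)) := fun k => ⟨a k, Pi.π _ k⟩
    have h1 : ev (fun i => G.obj (Uf i)) Q ((cx (fun i => G.obj (Uf i)) Q).d (n + 1) (n + 1 + 1) y)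
        (G.obj (∏ᶜ fun k => Uf (a k))) (mapSmp Uf G m) = 0 := by
      rw [ev_d]
      refine (Finset.sum_congr rfl fun k _ => congrArg _ (hxy _ (m ∘ k.succAbove))).trans ?_
      rw [← ev_d]
      exact (congrArg (fun z => ev Uf (G.op ⋙ Q) z _ m) hx).trans (ev_zero Uf (G.op ⋙ Q) _ _)
    change Q.map (Pi.lift fun k => G.map (Pi.π (fun k => Uf (a k)) k)).op
      (comp (fun i => G.obj (Uf i)) Q (n + 1 + 1) a _) = 0 at h1
    haveI : IsIso (Pi.lift fun k => G.map (Pi.π (fun k => Uf (a k)) k)) :=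
      inferInstanceAs (IsIso (piComparison G (fun k => Uf (a k))))
    exact (ConcreteCategory.bijective_of_isIso (Q.map (Pi.lift fun k => G.map (Pi.π (fun k => Uf (a k)) k)).op)).1
      (h1.trans (map_zero (Q.map (Pi.lift fun k => G.map (Pi.π (fun k => Uf (a k)) k)).op).hom).symm)
  obtain ⟨z, hz⟩ := h y hdy
  obtain ⟨w, hw⟩ := exists_ev_eq Uf (G.op ⋙ Q) (n := n)
    (fun T m => (ev (fun i => G.obj (Uf i)) Q z (G.obj T) (mapSmp Uf G m) : (G.op ⋙ Q).obj (op T)))
    fun g m => by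
      refine (ev_natural (fun i => G.obj (Uf i)) Q z (G.map g) (mapSmp Uf G m)).trans ?_
      rw [mapSmp_pb]
  refine ⟨w, ev_ext Uf (G.op ⋙ Q) fun T m => ?_⟩
  rw [ev_d, ← hxy, ← hz, ev_d]
  exact Finset.sum_congr rfl fun k _ => congrArg _ (hw T (m ∘ k.succAbove))

end

end EtCechInjLib
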